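import Mathlib
import Groth.Prelude.Def_PP16

/-! helper7: principal parts of the fraction field of a polynomial ring: the truncated Taylor
expansion identifies `P^n` of `k(T_1,…,T_r)` over `k` with the truncated polynomial ring over
`k(T_1,…,T_r)` (EGA IV 16.4.?). -/

set_option autoImplicit false
set_option linter.style.haveILetI false
set_option linter.unusedVariables false
set_option linter.unusedSectionVars false
universe u
open scoped TensorProduct

noncomputable section

namespace Groth.Agent.Helper7.PPFrac

open MvPolynomial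

section Q
variable (r n : ℕ) (K : Type u) [Field K]

/-- the quotient of the polynomial ring by the power of the ideal of variables -/
abbrev Q : Type u := MvPolynomial (Fin r) K ⧸ (idealOfVars (Fin r) K) ^ (n + 1)

theorem aeval_zero_eq_zero_of_mem (p : MvPolynomial (Fin r) K)
    (hp : p ∈ (idealOfVars (Fin r) K) ^ (n + 1)) : aeval (fun _ : Fin r => (0 : K)) p = 0 := by
  rw [aeval_zero']
  rw [mem_pow_idealOfVars_iff'] at hp
  have := hp 0 (by simp)
  simp [constantCoeff_eq, this]

/-- the augmentation of the truncated polynomial ring -/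
def aug : Q r n K →ₐ[K] K :=
  Ideal.Quotient.liftₐ _ (aeval (fun _ : Fin r => (0 : K))) (aeval_zero_eq_zero_of_mem r n K)

theorem aug_mk (p : MvPolynomial (Fin r) K) :
    aug r n K (Ideal.Quotient.mk _ p) = aeval (fun _ : Fin r => (0 : K)) p := rfl

theorem ker_aug_le :
    RingHom.ker (aug r n K) ≤ (idealOfVars (Fin r) K).map (Ideal.Quotient.mk _) := by
  intro x hx
  obtain ⟨p, rfl⟩ := Ideal.Quotient.mk_surjective x
  rw [RingHom.mem_ker, aug_mk, aeval_zero'] at hx
  apply Ideal.mem_map_of_mem
  rw [← pow_one (idealOfVars _ _), mem_pow_idealOfVars_iff']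
  intro x hx'
  have h0 : x = 0 := by
    rw [Nat.lt_one_iff] at hx'
    exact (Finsupp.degree_eq_zero_iff x).mp hx'
  subst h0
  simpa [constantCoeff_eq] using hx

theorem ker_aug_pow : (RingHom.ker (aug r n K)) ^ (n + 1) = ⊥ := by
  rw [eq_bot_iff]
  refine (Ideal.pow_right_mono (ker_aug_le r n K) (n + 1)).trans ?_
  rw [← Ideal.map_pow, Ideal.map_quotient_self]

theorem isNilpotent_of_aug_eq_zero {x : Q r n K} (hx : aug r n K x = 0) : IsNilpotent x := by
  refine ⟨n + 1, ?_⟩
  have : x ^ (n + 1) ∈ (RingHom.ker (aug r n K)) ^ (n + 1) := Ideal.pow_mem_pow hx _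
  rwa [ker_aug_pow, Ideal.mem_bot] at this

end Q

section main
variable (k : Type u) [Field k] (r n : ℕ) (K : Type u) [Field K] [Algebra k K]
  [Algebra (MvPolynomial (Fin r) k) K] [IsScalarTower k (MvPolynomial (Fin r) k) K]
  [IsFractionRing (MvPolynomial (Fin r) k) K]

/-- the coordinates -/
def t (i : Fin r) : K := algebraMap (MvPolynomial (Fin r) k) K (X i)

/-- the Taylor expansion on polynomials -/
def tauR : MvPolynomial (Fin r) k →ₐ[k] Q r n K :=
  aeval (fun i => Ideal.Quotient.mk _ (C (t k r K i) + X i))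

theorem aug_tauR (g : MvPolynomial (Fin r) k) :
    aug r n K (tauR k r n K g) = algebraMap _ K g := by
  have : ((aug r n K).restrictScalars k).comp (tauR k r n K) =
      IsScalarTower.toAlgHom k (MvPolynomial (Fin r) k) K := by
    apply MvPolynomial.algHom_ext
    intro i
    simp [tauR, aug_mk, t]
  exact DFunLike.congr_fun this g

theorem isUnit_tauR (g : MvPolynomial (Fin r) k) (hg : g ≠ 0) : IsUnit (tauR k r n K g) := by
  have h1 : IsUnit (algebraMap K (Q r n K) (algebraMap _ K g)) := by
    apply IsUnit.map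
    rw [isUnit_iff_ne_zero]
    exact (map_ne_zero_iff _ (IsFractionRing.injective (MvPolynomial (Fin r) k) K)).mpr hg
  have h2 : IsNilpotent (tauR k r n K g - algebraMap K (Q r n K) (algebraMap _ K g)) := by
    apply isNilpotent_of_aug_eq_zero
    rw [map_sub, aug_tauR, AlgHom.commutes]
    simp
  have := h2.isUnit_add_left_of_commute h1 (Commute.all _ _)
  simpa using this

/-- the Taylor expansion on rational functions -/
def tau : K →ₐ[k] Q r n K :=
  IsLocalization.liftAlgHom (M := nonZeroDivisors (MvPolynomial (Fin r) k)) (f := tauR k r n K)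
    (fun y => isUnit_tauR k r n K y (nonZeroDivisors.ne_zero y.2))

theorem tau_algebraMap (g : MvPolynomial (Fin r) k) :
    tau k r n K (algebraMap _ K g) = tauR k r n K g := by
  simp [tau]

theorem aug_tau (b : K) : aug r n K (tau k r n K b) = b := by
  have : ((aug r n K).toRingHom.comp (tau k r n K).toRingHom) = RingHom.id K := by
    apply IsLocalization.ringHom_ext (nonZeroDivisors (MvPolynomial (Fin r) k))
    refine RingHom.ext (fun g => ?_)
    simp [tau_algebraMap, aug_tauR]
  exact DFunLike.congr_fun this b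

/-- the map from the tensor square -/
def theta : K ⊗[k] K →ₐ[K] Q r n K :=
  Algebra.TensorProduct.lift (Algebra.ofId K (Q r n K)) (tau k r n K) (fun _ _ => Commute.all _ _)

theorem theta_tmul (a b : K) :
    theta k r n K (a ⊗ₜ b) = algebraMap K _ a * tau k r n K b := by
  simp [theta, Algebra.TensorProduct.lift_tmul, Algebra.ofId_apply]

theorem aug_theta (x : K ⊗[k] K) :
    aug r n K (theta k r n K x) = Algebra.TensorProduct.lmul' k x := by
  induction x using TensorProduct.induction_on with
  | zero => simp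
  | tmul a b => simp [theta_tmul, aug_tau]
  | add x y hx hy => simp [hx, hy]

theorem theta_mem (x : K ⊗[k] K) (hx : x ∈ (KaehlerDifferential.ideal k K) ^ (n + 1)) :
    theta k r n K x = 0 := by
  have h1 : (KaehlerDifferential.ideal k K).map (theta k r n K) ≤ RingHom.ker (aug r n K) := by
    rw [Ideal.map_le_iff_le_comap]
    intro y hy
    rw [Ideal.mem_comap, RingHom.mem_ker, aug_theta]
    exact hy
  have h2 := Ideal.pow_right_mono h1 (n + 1)
  rw [ker_aug_pow, ← Ideal.map_pow] at h2
  have := h2 (Ideal.mem_map_of_mem _ hx)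
  simpa using this

/-- the inverse map -/
def thetaBar : PP16.P n k K →ₐ[K] Q r n K :=
  Ideal.Quotient.liftₐ _ (theta k r n K) (theta_mem k r n K)

/-- the map of the statement -/
def Phi : MvPolynomial (Fin r) K →ₐ[K] PP16.P n k K :=
  aeval (fun i => PP16.dn n k K (t k r K i) - algebraMap K (PP16.P n k K) (t k r K i))

theorem thetaBar_dn (b : K) : thetaBar k r n K (PP16.dn n k K b) = tau k r n K b := by
  change theta k r n K (1 ⊗ₜ b) = _
  rw [theta_tmul]
  simp

theorem thetaBar_Phi (p : MvPolynomial (Fin r) K) :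
    thetaBar k r n K (Phi k r n K p) = Ideal.Quotient.mk _ p := by
  have : (thetaBar k r n K).comp (Phi k r n K) = Ideal.Quotient.mkₐ K _ := by
    apply MvPolynomial.algHom_ext
    intro i
    have h1 : tau k r n K (t k r K i) = Ideal.Quotient.mk _ (C (t k r K i) + X i) := by
      change tau k r n K (algebraMap _ K (X i)) = _
      rw [tau_algebraMap, tauR, aeval_X]
    have h2 : algebraMap K (Q r n K) (t k r K i) = Ideal.Quotient.mk _ (C (t k r K i)) := rfl
    simp only [AlgHom.comp_apply, Phi, aeval_X, map_sub, thetaBar_dn, AlgHom.commutes, h1, h2,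
      Ideal.Quotient.mkₐ_eq_mk, map_add]
    ring
  exact DFunLike.congr_fun this p

theorem Phi_mem (p : MvPolynomial (Fin r) K) (hp : p ∈ (idealOfVars (Fin r) K) ^ (n + 1)) :
    Phi k r n K p = 0 := by
  have h1 : (idealOfVars (Fin r) K).map (Phi k r n K) ≤ PP16.augIdeal n k K := by
    rw [Ideal.map_span, Ideal.span_le]
    rintro _ ⟨_, ⟨i, rfl⟩, rfl⟩
    have : Phi k r n K (X i) =
        Ideal.Quotient.mk _ ((1 : K) ⊗ₜ[k] t k r K i - t k r K i ⊗ₜ[k] (1 : K)) := by
      rw [Phi, aeval_X, map_sub]
      rfl
    change Phi k r n K (X i) ∈ _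
    rw [this]
    exact Ideal.mem_map_of_mem _ (KaehlerDifferential.one_smul_sub_smul_one_mem_ideal k _)
  have h2 := Ideal.pow_right_mono h1 (n + 1)
  have h3 : (PP16.augIdeal n k K) ^ (n + 1) = ⊥ := by
    rw [PP16.augIdeal, ← Ideal.map_pow, Ideal.map_quotient_self]
  rw [h3, ← Ideal.map_pow] at h2
  simpa using h2 (Ideal.mem_map_of_mem _ hp)

/-- the descended map -/
def PhiBar : Q r n K →ₐ[K] PP16.P n k K :=
  Ideal.Quotient.liftₐ _ (Phi k r n K) (Phi_mem k r n K)

theorem PhiBar_tauR (g : MvPolynomial (Fin r) k) :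
    PhiBar k r n K (tauR k r n K g) = PP16.dn n k K (algebraMap _ K g) := by
  have : ((PhiBar k r n K).restrictScalars k).comp (tauR k r n K) =
      (PP16.dn n k K).comp (IsScalarTower.toAlgHom k _ K) := by
    apply MvPolynomial.algHom_ext
    intro i
    have h1 : PhiBar k r n K (Ideal.Quotient.mk _ (C (t k r K i) + X i)) =
        Phi k r n K (C (t k r K i) + X i) := rfl
    have h2 : Phi k r n K (C (t k r K i) + X i) = PP16.dn n k K (t k r K i) := by
      rw [map_add, Phi, aeval_X, algHom_C]
      ring
    change PhiBar k r n K (tauR k r n K (X i)) = PP16.dn n k K (algebraMap _ K (X i))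
    rw [tauR, aeval_X, h1, h2]
    rfl
  exact DFunLike.congr_fun this g

theorem PhiBar_tau (b : K) : PhiBar k r n K (tau k r n K b) = PP16.dn n k K b := by
  have : ((PhiBar k r n K).toRingHom.comp (tau k r n K).toRingHom) =
      (PP16.dn n k K).toRingHom := by
    apply IsLocalization.ringHom_ext (nonZeroDivisors (MvPolynomial (Fin r) k))
    refine RingHom.ext (fun g => ?_)
    simp [tau_algebraMap, PhiBar_tauR]
  exact DFunLike.congr_fun this b

theorem PhiBar_thetaBar (x : PP16.P n k K) : PhiBar k r n K (thetaBar k r n K x) = x := by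
  obtain ⟨y, rfl⟩ := Ideal.Quotient.mk_surjective x
  induction y using TensorProduct.induction_on with
  | zero => simp
  | tmul a b =>
    change PhiBar k r n K (theta k r n K (a ⊗ₜ b)) = _
    rw [theta_tmul, map_mul, AlgHom.commutes, PhiBar_tau]
    change Ideal.Quotient.mk _ (a ⊗ₜ[k] (1 : K)) * Ideal.Quotient.mk _ ((1 : K) ⊗ₜ[k] b) = _
    rw [← map_mul, Algebra.TensorProduct.tmul_mul_tmul, mul_one, one_mul]
  | add x y hx hy => rw [map_add, map_add, map_add, hx, hy]

theorem main : Function.Surjective (Phi k r n K) ∧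
    RingHom.ker (Phi k r n K).toRingHom =
      (Ideal.span (Set.range (X : Fin r → MvPolynomial (Fin r) K))) ^ (n + 1) := by
  constructor
  · intro x
    obtain ⟨p, hp⟩ := Ideal.Quotient.mk_surjective (thetaBar k r n K x)
    refine ⟨p, ?_⟩
    have := PhiBar_thetaBar k r n K x
    rw [← hp] at this
    exact this
  · apply le_antisymm
    · intro p hp
      have := thetaBar_Phi k r n K p
      rw [RingHom.mem_ker] at hp
      change Phi k r n K p = 0 at hp
      rw [hp, map_zero] at this
      exact Ideal.Quotient.eq_zero_iff_mem.mp this.symm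
    · intro p hp
      exact Phi_mem k r n K p hp

end main

end Groth.Agent.Helper7.PPFrac
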